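import Groth.Agent.Krr.H453.PnDim
import Groth.Agent.CycB.P1PtClosure
import Mathlib.AlgebraicGeometry.Morphisms.FlatRank
import Mathlib.AlgebraicGeometry.Morphisms.QuasiFinite

/-!
# Clopen subsets of the projective line over a base and finite flat morphisms to it
-/

set_option autoImplicit false
universe u

open CategoryTheory CategoryTheory.Limits AlgebraicGeometry TopologicalSpace Topology

namespace K806.P1FinClopen

/-- A clopen subset of `P¹_S` is a union of fibres; it meets the zero section if nonempty. -/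
theorem exists_mem_sect {S : Scheme.{u}} (T : Set (CohB1.ProjSpaceOver 1 S)) (hT : IsClopen T)
    (hne : T.Nonempty) : ∃ s : S, P1.sect S 0 s ∈ T := by
  obtain ⟨p, hp⟩ := hne
  let s := CohB1.ProjSpaceOver.toBase 1 S p
  have hF := (Groth.Agent.Krr.H453.PnDim.isConnected_fiber 1 S s).isPreconnected
  have h1 : CohB1.ProjSpaceOver.toBase 1 S ⁻¹' {s} ⊆ T :=
    hF.subset_isClopen hT ⟨p, rfl, hp⟩
  refine ⟨s, h1 ?_⟩
  have h2 := Groth.Agent.CycB.P1PtClosure.sect_toBase S 0
  change CohB1.ProjSpaceOver.toBase 1 S (P1.sect S 0 s) = s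
  rw [← Scheme.Hom.comp_apply, h2]
  rfl

/-- The image of a clopen subset under a finite flat morphism of finite presentation is clopen. -/
theorem isClopen_image {X Y : Scheme.{u}} (g : X ⟶ Y) [IsFinite g] [Flat g]
    [LocallyOfFinitePresentation g] {W : Set X} (hW : IsClopen W) : IsClopen (g '' W) :=
  ⟨g.isClosedMap _ hW.1, g.isOpenMap _ hW.2⟩

theorem eq_univ {S X : Scheme.{u}} (g : X ⟶ CohB1.ProjSpaceOver 1 S) [IsFinite g] [Flat g]
    [LocallyOfFinitePresentation g] (W : Set X) (hW : IsClopen W)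
    (h0 : ∀ x : X, g x ∈ Set.range (P1.sect S 0) → x ∈ W) : W = Set.univ := by
  by_contra hne
  have h1 : (Wᶜ).Nonempty := Set.nonempty_compl.mpr hne
  obtain ⟨s, x, hx, hxs⟩ := exists_mem_sect (g '' Wᶜ) (isClopen_image g hW.compl) (h1.image g)
  exact hx (h0 x ⟨s, hxs.symm⟩)

/-- A connected component surjects onto a connected base under a finite flat morphism of finite presentation. -/
theorem exists_mem_connectedComponent {X Y : Scheme.{u}} [PreconnectedSpace Y] (f : X ⟶ Y)
    [IsFinite f] [Flat f] [LocallyOfFinitePresentation f] (x : X) (p : Y) :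
    ∃ y ∈ connectedComponent x, f y = p := by
  have hfin : (f ⁻¹' {p}).Finite := f.finite_preimage_singleton p
  have hmeet : ∀ W : Set X, IsClopen W → W.Nonempty → (W ∩ f ⁻¹' {p}).Nonempty := by
    intro W hW hne
    have h1 : f '' W = Set.univ := (isClopen_image f hW).eq_univ (hne.image f)
    obtain ⟨y, hy, hyp⟩ : p ∈ f '' W := h1 ▸ trivial
    exact ⟨y, hy, hyp⟩
  -- a clopen neighbourhood of `x` with the smallest number of points of the fibre
  have hex : ∃ n : ℕ, ∃ W : Set X, IsClopen W ∧ x ∈ W ∧ (W ∩ f ⁻¹' {p}).ncard = n :=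
    ⟨_, Set.univ, isClopen_univ, trivial, rfl⟩
  classical
  obtain ⟨W, hW, hxW, hn⟩ := Nat.find_spec hex
  have hmin : ∀ W' : Set X, IsClopen W' → x ∈ W' →
      (W ∩ f ⁻¹' {p}).ncard ≤ (W' ∩ f ⁻¹' {p}).ncard := by
    intro W' hW' hx'
    rw [hn]
    exact Nat.find_min' hex ⟨W', hW', hx', rfl⟩
  have key : ∀ u v : Set X, IsClosed u → IsClosed v → W ⊆ u ∪ v → Disjoint u v → x ∈ u → W ⊆ u := by
    intro u v hu hv hWuv huv hxu
    by_contra hWu
    have hcu : IsClopen (W ∩ u) := by
      refine ⟨hW.1.inter hu, ?_⟩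
      have : W ∩ u = W ∩ vᶜ := by
        ext z
        constructor
        · rintro ⟨hz, hzu⟩
          exact ⟨hz, fun hzv => Set.disjoint_left.mp huv hzu hzv⟩
        · rintro ⟨hz, hzv⟩
          exact ⟨hz, (hWuv hz).resolve_right hzv⟩
      rw [this]
      exact hW.2.inter hv.isOpen_compl
    have hcv : IsClopen (W ∩ v) := by
      refine ⟨hW.1.inter hv, ?_⟩
      have : W ∩ v = W ∩ uᶜ := by
        ext z
        constructor
        · rintro ⟨hz, hzv⟩
          exact ⟨hz, fun hzu => Set.disjoint_left.mp huv hzu hzv⟩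
        · rintro ⟨hz, hzu⟩
          exact ⟨hz, (hWuv hz).resolve_left hzu⟩
      rw [this]
      exact hW.2.inter hu.isOpen_compl
    obtain ⟨z, hzW, hzu⟩ := Set.not_subset.mp hWu
    have hzv : z ∈ v := (hWuv hzW).resolve_left hzu
    obtain ⟨y, ⟨hyW, hyv⟩, hyp⟩ := hmeet (W ∩ v) hcv ⟨z, hzW, hzv⟩
    have h1 := hmin (W ∩ u) hcu ⟨hxW, hxu⟩
    have h2 : (W ∩ u ∩ f ⁻¹' {p}).ncard < (W ∩ f ⁻¹' {p}).ncard := by
      refine Set.ncard_lt_ncard ⟨?_, ?_⟩ (hfin.subset Set.inter_subset_right)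
      · rintro a ⟨⟨ha, -⟩, ha'⟩
        exact ⟨ha, ha'⟩
      · intro hsub
        have := hsub ⟨hyW, hyp⟩
        exact Set.disjoint_left.mp huv this.1.2 hyv
    omega
  have hconn : _root_.IsPreconnected W := by
    rw [isPreconnected_iff_subset_of_fully_disjoint_closed hW.1]
    intro u v hu hv hWuv huv
    rcases hWuv hxW with hxu | hxv
    · exact Or.inl (key u v hu hv hWuv huv hxu)
    · exact Or.inr (key v u hv hu (by rwa [Set.union_comm]) huv.symm hxv)
  obtain ⟨y, hyW, hyp⟩ := hmeet W hW ⟨x, hxW⟩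
  exact ⟨y, hconn.subset_connectedComponent hxW hyW, hyp⟩

end K806.P1FinClopen
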